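import Cfsg.Agent.Lib.CopBase.SetStab

/-!
# Asymmetric three-colourings of solvable permutation groups of order prime to three
-/

set_option autoImplicit false
set_option linter.style.haveILetI false
set_option linter.unusedSectionVars false

namespace CfsgLib.CopBase

open CfsgLib.OddBase
open scoped Classical Pointwise
open MulAction

universe u

/-- An asymmetric three-colouring gives three inequivalent ones. -/
theorem three_colourings {G Ω : Type*} [Group G] [Finite G] [MulAction G Ω] [Nonempty Ω]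
    (h3 : ¬ 3 ∣ Nat.card G)
    (h : ∃ c : Ω → Fin 3, ∀ g : G, (∀ x, c (g • x) = c x) → ∀ x : Ω, g • x = x) :
    ∃ C : Fin 3 → Ω → Fin 3,
      (∀ i (g : G), (∀ x, C i (g • x) = C i x) → ∀ x : Ω, g • x = x) ∧
      ∀ i j (g : G), (∀ x, C j (g • x) = C i x) → i = j := by
  obtain ⟨c, hc⟩ := h
  refine ⟨fun i x => c x + i, fun i g hg => hc g fun x => add_right_cancel (hg x),
    fun i j g hg => ?_⟩
  obtain ⟨x₀⟩ := ‹Nonempty Ω›
  have hstep : ∀ x, c (g • x) = c x + (i - j) := fun x => by
    rw [← add_sub_assoc]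
    exact eq_sub_of_add_eq (hg x)
  have hpow : ∀ n : ℕ, c ((g ^ n) • x₀) = c x₀ + n • (i - j) := by
    intro n
    induction n with
    | zero => simp
    | succ n ih => rw [pow_succ', mul_smul, hstep, ih, succ_nsmul, add_assoc]
  have h1 := hpow (Nat.card G)
  rw [pow_card_eq_one', one_smul, left_eq_add, ← addOrderOf_dvd_iff_nsmul_eq_zero] at h1
  have h2 : addOrderOf (i - j) ∣ 3 :=
    addOrderOf_dvd_natCard (i - j) |>.trans (by simp)
  rcases (Nat.dvd_prime Nat.prime_three).mp h2 with e | e
  · exact sub_eq_zero.mp (AddMonoid.addOrderOf_eq_one_iff.mp e)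
  · exact absurd (e ▸ h1) h3

/-- The primitive case. -/
theorem colour_primitive {G : Type u} [Group G] [Finite G] [Group.IsSolvable G]
    (h3 : ¬ 3 ∣ Nat.card G) {Ω : Type u} [MulAction G Ω]
    [Finite Ω] (hprim : IsPreprimitive G Ω) (ω : Ω) :
    ∃ c : Ω → Fin 3, ∀ g : G, (∀ x, c (g • x) = c x) → ∀ x : Ω, g • x = x := by
  let φ := MulAction.toPermHom G Ω
  haveI : Group.IsSolvable φ.range := Group.isSolvable_of_surjective φ.rangeRestrict_surjective
  have h3' : ¬ 3 ∣ Nat.card φ.range := fun h => h3 (h.trans (Subgroup.card_range_dvd φ))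
  haveI : FaithfulSMul φ.range Ω := ⟨fun {a b} h => Subtype.ext (Equiv.ext fun x => h x)⟩
  haveI hp' : IsPreprimitive φ.range Ω :=
    IsPreprimitive.of_surjective (f := (⟨id, fun g x => rfl⟩ :
      Ω →ₑ[φ.rangeRestrict] Ω)) Function.surjective_id
  by_cases htriv : ∀ g : G, φ g = 1
  · exact ⟨fun _ => 0, fun g _ x => DFunLike.congr_fun (htriv g) x⟩
  push Not at htriv
  obtain ⟨g₀, hg₀⟩ := htriv
  obtain ⟨N, hN, hNbot, -, hmin⟩ :=
    CfsgLib.Solvable.exists_minimal_normal_le (⊤ : Subgroup φ.range) fun h => hg₀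
      (congrArg Subtype.val (Subgroup.mem_bot.mp
        (show φ.rangeRestrict g₀ ∈ (⊥ : Subgroup φ.range) from h ▸ Subgroup.mem_top _)))
  haveI := hN
  obtain ⟨hNc, r, hr, hexp⟩ := CfsgLib.Solvable.minimal_normal_elementary_abelian N hNbot hmin
  haveI := Fact.mk hr
  have hNfix : fixedPoints N Ω ≠ Set.univ := by
    intro h
    refine hNbot ((Subgroup.eq_bot_iff_forall _).2 fun a ha => Subtype.ext (Equiv.ext fun x => ?_))
    exact (show x ∈ fixedPoints N Ω by rw [h]; trivial) ⟨a, ha⟩
  haveI : IsPretransitive N Ω :=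
    IsQuasiPreprimitive.isPretransitive_of_normal hNfix
  letI : CommGroup N := { (inferInstance : Group N) with
    mul_comm := hNc.is_comm.comm }
  have hfree : ∀ a b : N, a • ω = b • ω → a = b := by
    intro a b h
    refine eq_of_smul_eq_smul fun x : Ω => ?_
    obtain ⟨m, rfl⟩ := exists_smul_eq N ω x
    rw [← mul_smul, ← mul_smul, mul_comm a, mul_comm b, mul_smul, mul_smul, h]
  choose ν hν using fun x : Ω => exists_smul_eq N ω x
  have hνm : ∀ a : N, ν (a • ω) = a := fun a => hfree _ _ (hν _)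
  let H := stabilizer φ.range ω
  have hmove : ∀ h : φ.range, h ∈ H → ∀ a : N,
      h • (a • ω) = (⟨h * a * h⁻¹, hN.conj_mem _ a.2 h⟩ : N) • ω := by
    intro h hh a
    show h • ((a : φ.range) • ω) = (h * (a : φ.range) * h⁻¹) • ω
    have h1 : h⁻¹ • ω = ω := inv_smul_eq_iff.2 (mem_stabilizer_iff.mp hh).symm
    rw [mul_smul, mul_smul, h1]
  let σ : H →* AddMonoid.End (Additive N) :=
    { toFun := fun h => AddMonoidHom.mk'
        (fun a => Additive.ofMul (⟨h * (Additive.toMul a : N) * (h : φ.range)⁻¹,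
          hN.conj_mem _ (Additive.toMul a).2 h⟩ : N))
        (fun a b => congrArg Additive.ofMul (Subtype.ext (by simp [mul_assoc])))
      map_one' := end_ext fun a => by
        show Additive.ofMul _ = Additive.ofMul (Additive.toMul a)
        exact congrArg Additive.ofMul (Subtype.ext (by simp))
      map_mul' := fun g h => end_ext fun a =>
        congrArg Additive.ofMul (Subtype.ext (by simp [mul_assoc]; rfl)) }
  have hfaith : ∀ h, σ h = 1 → h = 1 := by
    intro h hh
    refine Subtype.ext (eq_of_smul_eq_smul fun x : Ω => ?_)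
    have h1 := congrArg Additive.toMul (DFunLike.congr_fun hh (Additive.ofMul (ν x)))
    rw [OneMemClass.coe_one, one_smul]
    conv_lhs => rw [← hν x, hmove h h.2]
    exact (congrArg (fun a : N => a • ω) h1).trans (hν x)
  have hirr : Irr σ := by
    intro U hU
    let U' : Subgroup φ.range := (AddSubgroup.toSubgroup' U).map N.subtype
    have hU'n : U'.Normal := by
      refine ⟨?_⟩
      rintro _ ⟨a, ha, rfl⟩ g
      obtain ⟨n, hn⟩ := exists_smul_eq N ω (g • ω)
      have hh : ((n : φ.range))⁻¹ * g ∈ H := by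
        rw [mem_stabilizer_iff, mul_smul, ← hn]
        exact inv_smul_smul (n : φ.range) ω
      refine ⟨_, hU ⟨_, hh⟩ (Additive.ofMul a) ha, ?_⟩
      show ((n : φ.range))⁻¹ * g * a * ((n : φ.range)⁻¹ * g)⁻¹ = g * a * g⁻¹
      have hc : (n : φ.range) * (g * a * g⁻¹) = g * a * g⁻¹ * n :=
        congrArg Subtype.val (mul_comm n (⟨_, hN.conj_mem _ a.2 g⟩ : N))
      calc _ = (n : φ.range)⁻¹ * ((g * a * g⁻¹) * n) := by group
        _ = g * a * g⁻¹ := by rw [← hc, inv_mul_cancel_left]
    rcases hmin U' hU'n (Subgroup.map_subtype_le _) with h | h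
    · left
      rw [AddSubgroup.eq_bot_iff_forall]
      intro a ha
      have h1 : ((Additive.toMul a : N) : φ.range) ∈ U' := ⟨_, ha, rfl⟩
      rw [h, Subgroup.mem_bot] at h1
      exact congrArg Additive.ofMul (Subtype.ext h1 : Additive.toMul a = 1)
    · right
      rw [AddSubgroup.eq_top_iff']
      intro a
      obtain ⟨b, hb, e⟩ : ((Additive.toMul a : N) : φ.range) ∈ U' := by
        rw [h]; exact (Additive.toMul a).2
      rwa [Subtype.ext (show (b : φ.range) = _ from e)] at hb
  haveI : Nontrivial N := (Subgroup.nontrivial_iff_ne_bot N).2 hNbot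
  have hpow : ∀ a : N, a ^ r = 1 := fun a => Subtype.ext (by simpa using hexp _ a.2)
  letI : Module (ZMod r) (Additive N) := AddCommGroup.zmodModule fun a =>
    congrArg Additive.ofMul (hpow (Additive.toMul a))
  have hr3 : r ≠ 3 := by
    rintro rfl
    obtain ⟨a, ha1⟩ := Subgroup.ne_bot_iff_exists_ne_one.mp hNbot
    exact h3' (orderOf_eq_prime (hexp _ a.2) (fun h => ha1 (Subtype.ext h)) ▸
      orderOf_dvd_natCard (a : φ.range))
  have hH3 : ¬ 3 ∣ Nat.card H := fun h => h3' (h.trans H.card_subgroup_dvd_card)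
  obtain ⟨T, hT0, hT⟩ := exists_set hH3 hr3 σ hfaith hirr
  refine ⟨fun x => if x = ω then 0 else if Additive.ofMul (ν x) ∈ T then 1 else 2,
    fun g hg x => ?_⟩
  have hgω : g • ω = ω := by
    have h := hg ω
    by_contra hne
    simp only [if_neg hne, if_true] at h
    split_ifs at h <;> exact absurd h (by decide)
  let h : H := ⟨φ.rangeRestrict g, hgω⟩
  have hhT : ∀ a, σ h a ∈ T ↔ a ∈ T := by
    intro a
    obtain ⟨a, rfl⟩ := Additive.ofMul.surjective a
    by_cases ha : a = 1
    · subst ha
      rw [ofMul_one, map_zero]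
    have hne : a • ω ≠ ω := fun e => ha (hfree a 1 (by rwa [one_smul]))
    have hne' : g • (a • ω) ≠ ω := fun e => hne (smul_left_cancel g (e.trans hgω.symm))
    have h1 := hg (a • ω)
    simp only [if_neg hne, if_neg hne'] at h1
    have e : σ h (Additive.ofMul a) = Additive.ofMul (ν (g • (a • ω))) := by
      show Additive.ofMul _ = _
      rw [show g • (a • ω) = (h : φ.range) • (a • ω) from rfl, hmove _ h.2, hνm]
      rfl
    rw [hνm] at h1
    rw [e]
    by_cases p : Additive.ofMul (ν (g • (a • ω))) ∈ T <;>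
      by_cases q : Additive.ofMul a ∈ T <;> simp [p, q] at h1 ⊢
  have h1 := hfaith h (hT h hhT)
  have h2 : φ g = 1 := congrArg Subtype.val (congrArg Subtype.val h1)
  exact DFunLike.congr_fun h2 x

theorem colour_aux (n : ℕ) : ∀ (G : Type u) [Group G] (Ω : Type u) [MulAction G Ω]
    [Finite Ω] [Finite G], Nat.card Ω = n → Group.IsSolvable G → ¬ 3 ∣ Nat.card G →
    ∃ s : Ω → Fin 3, ∀ g : G, (∀ x, s (g • x) = s x) → ∀ x : Ω, g • x = x := by
  induction n using Nat.strong_induction_on with
  | _ n ih =>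
  intro G _ Ω _ _ _ hn hsol h3
  rcases Nat.lt_or_ge n 2 with h1 | h2
  · haveI : Subsingleton Ω := Finite.card_le_one_iff_subsingleton.mp (by omega)
    exact ⟨fun _ => 0, fun g _ x => Subsingleton.elim _ _⟩
  obtain ⟨ω⟩ : Nonempty Ω := (Nat.card_pos_iff.mp (by omega)).1
  by_cases htr : IsPretransitive G Ω
  · by_cases hprim : IsPreprimitive G Ω
    · exact colour_primitive h3 hprim ω
    · -- a non-trivial block
      obtain ⟨B, hB, hBnt⟩ : ∃ B : Set Ω, IsBlock G B ∧ ¬ IsTrivialBlock B := by
        by_contra hc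
        push Not at hc
        exact hprim { htr with isTrivialBlock_of_isBlock := fun {B} hB => hc B hB }
      simp only [IsTrivialBlock, not_or, Set.not_subsingleton_iff] at hBnt
      obtain ⟨b₀, hb₀⟩ := hBnt.1.nonempty
      let S := stabilizer G B
      have hBlt : Nat.card B < n := by
        rw [← hn, ← Nat.card_univ (α := Ω)]
        exact Set.Finite.card_lt_card Set.finite_univ (Set.ssubset_univ_iff.mpr hBnt.2)
      have huniq : ∀ (g g' : G) (b b' : Ω), b ∈ B → b' ∈ B → g • b = g' • b' →
          (g : G ⧸ S) = (g' : G ⧸ S) := by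
        intro g g' b b' hb hb' e
        refine QuotientGroup.eq.mpr ?_
        rw [mem_stabilizer_iff, mul_smul, inv_smul_eq_iff]
        exact (isBlock_iff_smul_eq_smul_of_nonempty.mp hB
          ⟨g • b, Set.smul_mem_smul_set hb, e ▸ Set.smul_mem_smul_set hb'⟩).symm
      have hexist : ∀ x : Ω, ∃ q : G ⧸ S, q.out⁻¹ • x ∈ B := by
        intro x
        obtain ⟨g, hg⟩ := exists_smul_eq G b₀ x
        refine ⟨(g : G ⧸ S), ?_⟩
        obtain ⟨s, hs⟩ := QuotientGroup.mk_out_eq_mul S g
        rw [hs, mul_inv_rev, mul_smul, ← hg, inv_smul_smul]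
        have hsB : ((s : G)⁻¹) • B = B := mem_stabilizer_iff.mp (S.inv_mem s.2)
        rw [← hsB]
        exact Set.smul_mem_smul_set hb₀
      choose qo hqo using hexist
      have hsurj : Function.Surjective qo := by
        intro q
        refine ⟨q.out • b₀, ?_⟩
        have := huniq (qo (q.out • b₀)).out q.out _ b₀ (hqo _) hb₀ (smul_inv_smul _ _)
        rwa [QuotientGroup.out_eq', QuotientGroup.out_eq'] at this
      haveI : Finite (G ⧸ S) := Finite.of_surjective qo hsurj
      have hIlt : Nat.card (G ⧸ S) < n := by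
        rw [← hn]
        haveI := Fintype.ofFinite (G ⧸ S)
        haveI := Fintype.ofFinite Ω
        rw [Nat.card_eq_fintype_card, Nat.card_eq_fintype_card]
        refine lt_of_le_of_ne (Fintype.card_le_of_surjective _ hsurj) fun e => ?_
        obtain ⟨b₁, hb₁, hne⟩ := hBnt.1.exists_ne b₀
        refine hne (((Fintype.bijective_iff_surjective_and_card qo).mpr ⟨hsurj, e.symm⟩).1 ?_)
        have e1 := huniq (qo b₁).out (1 : G) _ b₁ (hqo b₁) hb₁ (by rw [smul_inv_smul, one_smul])
        have e2 := huniq (qo b₀).out (1 : G) _ b₀ (hqo b₀) hb₀ (by rw [smul_inv_smul, one_smul])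
        rw [QuotientGroup.out_eq'] at e1 e2
        rw [e1, e2]
      letI : MulAction S B :=
        { smul := fun s b => ⟨(s : G) • (b : Ω), by
            have hs : (s : G) • B = B := mem_stabilizer_iff.mp s.2
            have h := (Set.smul_mem_smul_set b.2 : (s : G) • (b : Ω) ∈ (s : G) • B)
            rwa [hs] at h⟩
          one_smul := fun b => Subtype.ext (one_smul G b.1)
          mul_smul := fun s t b => Subtype.ext (mul_smul (s : G) t b.1) }
      haveI : Nonempty B := ⟨⟨b₀, hb₀⟩⟩
      have hS3 : ¬ 3 ∣ Nat.card S := fun h => h3 (h.trans S.card_subgroup_dvd_card)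
      obtain ⟨C, hC, hCC⟩ := three_colourings hS3
        (ih (Nat.card B) hBlt S B rfl inferInstance hS3)
      obtain ⟨sI, hsI⟩ := ih (Nat.card (G ⧸ S)) hIlt G (G ⧸ S) rfl hsol h3
      let col : G ⧸ S → B → Fin 3 := fun q b => C (sI q) b
      refine ⟨fun x => col (qo x) ⟨(qo x).out⁻¹ • x, hqo x⟩, fun g hg => ?_⟩
      -- `g` maps the block `q` to the block `g • q`
      have hmap : ∀ q : G ⧸ S, (g • q).out⁻¹ * g * q.out ∈ S := by
        intro q
        rw [mul_assoc, ← QuotientGroup.eq, QuotientGroup.out_eq']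
        conv_lhs => rw [← QuotientGroup.out_eq' q]
        rfl
      have hqo_smul : ∀ (q : G ⧸ S) (b : B), qo (q.out • (b : Ω)) = q := by
        intro q b
        have := huniq (qo (q.out • (b : Ω))).out q.out _ b (hqo _) b.2 (smul_inv_smul _ _)
        rwa [QuotientGroup.out_eq', QuotientGroup.out_eq'] at this
      have hval : ∀ (q : G ⧸ S) (b : B),
          col (qo (q.out • (b : Ω))) ⟨(qo (q.out • (b : Ω))).out⁻¹ • (q.out • (b : Ω)), hqo _⟩ =
            col q b := by
        intro q b
        have e := hqo_smul q b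
        congr 1
        exact Subtype.ext (by simp [e])
      have hkey : ∀ (q : G ⧸ S) (b : B), col (g • q) ((⟨_, hmap q⟩ : S) • b) = col q b := by
        intro q b
        have h := hg (q.out • (b : Ω))
        simp only at h
        rw [hval] at h
        have e : g • q.out • (b : Ω) = (g • q).out • (((⟨_, hmap q⟩ : S) • b : B) : Ω) := by
          show _ = (g • q).out • (((g • q).out⁻¹ * g * q.out) • (b : Ω))
          simp [mul_smul]
        rw [e, hval] at h
        exact h
      have hI : ∀ q, sI (g • q) = sI q := fun q =>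
        (hCC (sI q) (sI (g • q)) ⟨_, hmap q⟩ (hkey q)).symm
      intro x
      have hq := hsI g hI (qo x)
      let b : B := ⟨(qo x).out⁻¹ • x, hqo x⟩
      have h4 : ∀ b', C (sI (qo x)) ((⟨_, hmap (qo x)⟩ : S) • b') = C (sI (qo x)) b' := by
        intro b'
        have h := hkey (qo x) b'
        simp only [col, hI] at h
        exact h
      have h5 := congrArg Subtype.val (hC _ _ h4 b)
      change ((g • qo x).out⁻¹ * g * (qo x).out) • ((qo x).out⁻¹ • x) = (qo x).out⁻¹ • x at h5
      rw [hq, mul_smul, mul_smul, smul_inv_smul, smul_left_cancel_iff] at h5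
      exact h5
  · -- intransitive
    let Δ := orbit G ω
    have hΔ : ∀ (g : G) (x : Ω), g • x ∈ Δ ↔ x ∈ Δ := fun g x => by
      simp only [Δ, ← orbit_eq_iff, orbit_smul]
    letI : MulAction G {x : Ω // x ∈ Δ} :=
      { smul := fun g x => ⟨g • x.1, (hΔ g x.1).mpr x.2⟩
        one_smul := fun x => Subtype.ext (one_smul G x.1)
        mul_smul := fun g h x => Subtype.ext (mul_smul g h x.1) }
    letI : MulAction G {x : Ω // x ∉ Δ} :=
      { smul := fun g x => ⟨g • x.1, fun h => x.2 ((hΔ g x.1).mp h)⟩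
        one_smul := fun x => Subtype.ext (one_smul G x.1)
        mul_smul := fun g h x => Subtype.ext (mul_smul g h x.1) }
    obtain ⟨y, hy⟩ : ∃ y, y ∉ Δ := by
      by_contra hc
      push Not at hc
      exact htr ⟨fun a b => by
        obtain ⟨c, hc'⟩ := hc a
        obtain ⟨d, hd⟩ := hc b
        exact ⟨d * c⁻¹, by rw [← hc', ← hd, mul_smul, inv_smul_smul]⟩⟩
    have h1 : Nat.card {x : Ω // x ∈ Δ} < n := hn ▸ Finite.card_subtype_lt hy
    have h2' : Nat.card {x : Ω // x ∉ Δ} < n :=
      hn ▸ Finite.card_subtype_lt (x := ω) (not_not.mpr (mem_orbit_self ω))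
    obtain ⟨s₁, hs₁⟩ := ih _ h1 G {x : Ω // x ∈ Δ} rfl hsol h3
    obtain ⟨s₂, hs₂⟩ := ih _ h2' G {x : Ω // x ∉ Δ} rfl hsol h3
    refine ⟨fun x => if h : x ∈ Δ then s₁ ⟨x, h⟩ else s₂ ⟨x, h⟩, fun g hg x => ?_⟩
    by_cases hx : x ∈ Δ
    · refine congrArg Subtype.val (hs₁ g (fun z => ?_) ⟨x, hx⟩)
      have := hg z.1
      simp only [z.2, (hΔ g z.1).mpr z.2, dite_true] at this
      exact this
    · refine congrArg Subtype.val (hs₂ g (fun z => ?_) ⟨x, hx⟩)
      have := hg z.1
      have hz : g • z.1 ∉ Δ := fun h => z.2 ((hΔ g z.1).mp h)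
      simp only [z.2, hz, dite_false] at this
      exact this

/-- Every solvable permutation group of order prime to three has an asymmetric three-colouring. -/
theorem exists_colouring_three {G : Type u} [Group G] [Finite G] [Group.IsSolvable G]
    (h3 : ¬ 3 ∣ Nat.card G) {Ω : Type u} [MulAction G Ω] [Finite Ω] :
    ∃ s : Ω → Fin 3, ∀ g : G, (∀ x, s (g • x) = s x) → ∀ x : Ω, g • x = x :=
  colour_aux (Nat.card Ω) G Ω rfl inferInstance h3

/-- Every solvable permutation group of order prime to the odd prime `p` has an asymmetric colouring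
with `p` colours. -/
theorem exists_colouring_prime {G : Type u} [Group G] [Finite G] [Group.IsSolvable G] {p : ℕ}
    (hp : p.Prime) (hp2 : p ≠ 2) (hcop : ¬ p ∣ Nat.card G) {Ω : Type u} [MulAction G Ω]
    [Finite Ω] : ∃ s : Ω → Fin p, ∀ g : G, (∀ x, s (g • x) = s x) → ∀ x : Ω, g • x = x := by
  rcases eq_or_ne p 3 with rfl | hp3
  · exact exists_colouring_three hcop
  · have h5 : 5 ≤ p := by
      have := hp.two_le
      by_contra h
      interval_cases p <;> first | omega | exact absurd hp (by decide)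
    obtain ⟨s, hs⟩ := CfsgLib.SolBase.exists_colouring (G := G) (Ω := Ω)
    exact ⟨fun x => Fin.castLE h5 (s x),
      fun g hg => hs g fun x => Fin.castLE_injective h5 (hg x)⟩

end CfsgLib.CopBase
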