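import Mathlib
import Cfsg.Agent.Lib.OddBase.Reduce

/-!
# Inequivalent regular pairs

In a coprime linear group the translates `(a + i • b, b)` of a regular pair are pairwise
inequivalent.
-/

set_option autoImplicit false
set_option linter.unusedSectionVars false
set_option linter.style.haveILetI false

namespace CfsgLib.CopBase

open CfsgLib.OddBase

universe u v

variable {G : Type u} [Group G] {V : Type v} [AddCommGroup V]

/-- A regular pair can be chosen with a non-zero second vector. -/
theorem exists_pair_ne_zero [Nontrivial V] {ρ : G →* AddMonoid.End V} (h : Good ρ) :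
    ∃ a b : V, b ≠ 0 ∧ ∀ g, ρ g a = a → ρ g b = b → ρ g = 1 := by
  obtain ⟨x, y, hxy⟩ := h
  by_cases hy : y = 0
  · by_cases hx : x = 0
    · obtain ⟨v, hv⟩ := exists_ne (0 : V)
      exact ⟨0, v, hv, fun g _ _ => hxy g (by rw [hx, map_zero]) (by rw [hy, map_zero])⟩
    · exact ⟨0, x, hx, fun g _ hgx => hxy g hgx (by rw [hy, map_zero])⟩
  · exact ⟨x, y, hy, hxy⟩

/-- `p` pairwise inequivalent regular pairs. -/
theorem inequivalent_pairs [Finite G] [Nontrivial V] {ρ : G →* AddMonoid.End V} {p : ℕ}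
    [Fact p.Prime] (hexp : ∀ v : V, p • v = 0) (hcop : ¬ p ∣ Nat.card G) (h : Good ρ) :
    ∃ P : Fin p → Fin 2 → V, (∀ i g, (∀ k, ρ g (P i k) = P i k) → ρ g = 1) ∧
      ∀ i j g, (∀ k, ρ g (P i k) = P j k) → i = j := by
  obtain ⟨a, b, hb, hab⟩ := exists_pair_ne_zero h
  refine ⟨fun i => ![a + (i : ℕ) • b, b], fun i g hg => ?_, fun i j g hg => ?_⟩
  · have h1 : ρ g b = b := hg 1
    have h0 : ρ g (a + (i : ℕ) • b) = a + (i : ℕ) • b := hg 0
    rw [map_add, map_nsmul, h1] at h0
    exact hab g (add_right_cancel h0) h1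
  · have h1 : ρ g b = b := hg 1
    have h0 : ρ g (a + (i : ℕ) • b) = a + (j : ℕ) • b := hg 0
    rw [map_add, map_nsmul, h1] at h0
    let d : V := (j : ℕ) • b - (i : ℕ) • b
    have hd : ρ g d = d := by simp [d, h1]
    have ha : ρ g a = a + d := by
      rw [show a + d = a + (j : ℕ) • b - (i : ℕ) • b from add_sub_assoc' _ _ _]
      exact eq_sub_of_add_eq h0
    have hpow : ∀ n : ℕ, ρ (g ^ n) a = a + n • d := by
      intro n
      induction n with
      | zero => simp
      | succ n ih => rw [pow_succ', rho_mul, ih, map_add, map_nsmul, hd, ha, succ_nsmul', add_assoc]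
    have hn := hpow (Nat.card G)
    rw [pow_card_eq_one', rho_one, left_eq_add] at hn
    letI : Module (ZMod p) V := AddCommGroup.zmodModule hexp
    have hcancel : ∀ (c : ZMod p) (v : V), c • v = 0 → c = 0 ∨ v = 0 := fun c v h => by
      by_cases hc : c = 0
      · exact Or.inl hc
      · exact Or.inr (by rw [← inv_smul_smul₀ hc v, h, smul_zero])
    rw [← Nat.cast_smul_eq_nsmul (ZMod p)] at hn
    have hd' : d = 0 := (hcancel _ _ hn).resolve_left
      (by rw [ZMod.natCast_eq_zero_iff]; exact hcop)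
    simp only [d, ← Nat.cast_smul_eq_nsmul (ZMod p), ← sub_smul] at hd'
    have hd0 : ((j : ℕ) : ZMod p) = ((i : ℕ) : ZMod p) :=
      sub_eq_zero.mp ((hcancel _ _ hd').resolve_right hb)
    have h2 := congrArg ZMod.val hd0
    rw [ZMod.val_cast_of_lt j.isLt, ZMod.val_cast_of_lt i.isLt] at h2
    exact Fin.ext h2.symm

end CfsgLib.CopBase
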