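import Cfsg.Agent.Lib.SolBase.Main

/-!
# Sets of vectors with trivial setwise stabilizer

A solvable irreducible linear group of order prime to three over a prime field of size different
from three has a set of non-zero vectors with trivial setwise stabilizer.
-/

set_option autoImplicit false
set_option linter.style.haveILetI false
set_option linter.unusedSectionVars false

namespace CfsgLib.CopBase

open CfsgLib.OddBase
open scoped Classical

universe u

/-- How a vector lies with respect to a set: membership and numbers of expressions as sums. -/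
def pinInv {N : Type*} [AddCommGroup N] [DecidableEq N] (T : Finset N) (x : N) : Bool × ℕ × ℕ :=
  (decide (x ∈ T), (T.filter fun y => x + y ∈ T).card,
    ∑ y ∈ T, (T.filter fun z => x + y + z ∈ T).card)

theorem pinInv_map {M N : Type*} [AddCommGroup M] [AddCommGroup N] [DecidableEq M] [DecidableEq N]
    (f : M →+ N) (hf : Function.Injective f) (T : Finset M) (x : M) :
    pinInv (T.image f) (f x) = pinInv T x := by
  have hmem : ∀ y, f y ∈ T.image f ↔ y ∈ T := fun y => by simp [hf.eq_iff]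
  have h2 : ∀ x, ((T.image f).filter fun y => f x + y ∈ T.image f).card =
      (T.filter fun y => x + y ∈ T).card := by
    intro x
    rw [Finset.filter_image, Finset.card_image_of_injective _ hf]
    exact congrArg Finset.card (Finset.filter_congr fun y _ => by rw [← map_add, hmem])
  unfold pinInv
  refine Prod.ext (by simp [hf.eq_iff]) (Prod.ext (h2 x) ?_)
  rw [Finset.sum_image fun a _ b _ h => hf h]
  refine Finset.sum_congr rfl fun y _ => ?_
  rw [← map_add, h2]

/-- Vectors singled out by their invariants are fixed by all maps preserving the set. -/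
theorem pinned {k : ℕ} {N : Type*} [AddCommGroup N] [DecidableEq N]
    (ι : (Fin k → ZMod 2) →+ N) (hι : Function.Injective ι) (T₀ : Finset (Fin k → ZMod 2))
    {x : Fin k → ZMod 2} (h3 : (pinInv T₀ x).2.2 ≠ 0)
    (huniq : ∀ v, pinInv T₀ v = pinInv T₀ x → v = x)
    (L : N →+ N) (hL : Function.Injective L) (hT : (T₀.image ι).image L = T₀.image ι) :
    L (ι x) = ι x := by
  obtain ⟨y, hy, hyz⟩ : ∃ y ∈ T₀, (T₀.filter fun z => x + y + z ∈ T₀).Nonempty := by
    by_contra hne
    refine h3 (Finset.sum_eq_zero fun y hy => ?_)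
    rw [Finset.card_eq_zero, ← Finset.not_nonempty_iff_eq_empty]
    exact fun h => hne ⟨y, hy, h⟩
  obtain ⟨z, hz⟩ := hyz
  rw [Finset.mem_filter] at hz
  have hLT : ∀ w ∈ T₀, ∃ w', L (ι w) = ι w' := by
    intro w hw
    have h : L (ι w) ∈ T₀.image ι := hT ▸ Finset.mem_image_of_mem _ (Finset.mem_image_of_mem _ hw)
    obtain ⟨w', -, e⟩ := Finset.mem_image.mp h
    exact ⟨w', e.symm⟩
  obtain ⟨a, ha⟩ := hLT _ hz.2
  obtain ⟨b, hb⟩ := hLT y hy
  obtain ⟨c, hc⟩ := hLT z hz.1
  have hLx : L (ι x) = ι (a - b - c) := by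
    rw [map_sub, map_sub, ← ha, ← hb, ← hc, ← map_sub, ← map_sub, ← map_sub, ← map_sub]
    congr 2
    abel
  have h1 := pinInv_map (L.comp ι) (hL.comp hι) T₀ x
  rw [show T₀.image (L.comp ι) = T₀.image ι by rw [← hT, Finset.image_image]; rfl,
    show (L.comp ι) x = ι (a - b - c) from hLx, pinInv_map ι hι] at h1
  rw [hLx, huniq _ h1]

/-- Pins in dimension four. -/
theorem pins_four : ∃ T₀ : Finset (Fin 4 → ZMod 2), (0 : Fin 4 → ZMod 2) ∉ T₀ ∧
    ∀ i : Fin 4, (i : ℕ) < 2 → (pinInv T₀ (Pi.single i 1)).2.2 ≠ 0 ∧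
      ∀ v, pinInv T₀ v = pinInv T₀ (Pi.single i 1) → v = Pi.single i 1 := by
  refine ⟨{![0, 0, 1, 0], ![0, 0, 1, 1], ![1, 0, 0, 0], ![0, 1, 1, 1], ![0, 1, 0, 0],
    ![0, 1, 1, 0]}, ?_⟩
  decide +kernel

/-- Pins in dimension five. -/
theorem pins_five : ∃ T₀ : Finset (Fin 5 → ZMod 2), (0 : Fin 5 → ZMod 2) ∉ T₀ ∧
    ∀ i : Fin 5, (pinInv T₀ (Pi.single i 1)).2.2 ≠ 0 ∧
      ∀ v, pinInv T₀ v = pinInv T₀ (Pi.single i 1) → v = Pi.single i 1 := by
  refine ⟨{![1, 1, 0, 0, 0], ![0, 1, 0, 0, 0], ![1, 1, 0, 1, 0], ![1, 0, 1, 1, 0],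
    ![1, 1, 1, 1, 0], ![0, 1, 1, 1, 0], ![0, 0, 0, 0, 1], ![0, 0, 1, 0, 1], ![1, 1, 1, 0, 1],
    ![1, 1, 0, 1, 1], ![0, 1, 0, 1, 1], ![0, 1, 1, 1, 1]}, ?_⟩
  decide +kernel

/-- A set whose stabilizer fixes given vectors, at most three of them. -/
theorem exists_set_fixing_three {N : Type*} [AddCommGroup N] [Finite N] [Module (ZMod 2) N]
    (hN : 5 ≤ Module.finrank (ZMod 2) N) (t : Fin 3 → N) :
    ∃ T : Set N, (0 : N) ∉ T ∧ ∀ L : N →+ N, Function.Injective L →
      (∀ x, L x ∈ T ↔ x ∈ T) → ∀ j, L (t j) = t j := by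
  obtain ⟨s, hst, hspan, hs'⟩ := exists_linearIndependent (ZMod 2) (Set.range t)
  have hs : LinearIndepOn (ZMod 2) id s := hs'
  let b := Module.Basis.extend hs
  haveI := Module.Finite.of_finite (R := ZMod 2) (M := N)
  haveI : Fintype (hs.extend (Set.subset_univ s)) := Fintype.ofFinite _
  have hb : ∀ x, b x = (x : N) := fun x => Module.Basis.extend_apply_self _ x
  let S := Finset.univ.filter fun x : hs.extend (Set.subset_univ s) => (x : N) ∈ s
  have hS : S.card ≤ 5 := by
    have h1 : S.image Subtype.val ⊆ Finset.univ.image t := by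
      intro x hx
      obtain ⟨y, hy, rfl⟩ := Finset.mem_image.mp hx
      obtain ⟨j, hj⟩ := hst (Finset.mem_filter.mp hy).2
      exact Finset.mem_image.mpr ⟨j, Finset.mem_univ _, hj⟩
    have h2 := (Finset.card_le_card h1).trans Finset.card_image_le
    rw [Finset.card_image_of_injective _ Subtype.val_injective] at h2
    simp at h2
    omega
  obtain ⟨U, hSU, -, hU⟩ := Finset.exists_subsuperset_card_eq S.subset_univ hS
    (by rwa [Finset.card_univ, ← Module.finrank_eq_card_basis b])
  let f : Fin 5 → N := fun i => b ((U.equivFinOfCardEq hU).symm i)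
  have hf : LinearIndependent (ZMod 2) f :=
    b.linearIndependent.comp _ (Subtype.val_injective.comp (Equiv.injective _))
  let ι := Fintype.linearCombination (ZMod 2) f
  have hι : Function.Injective ι := hf.fintypeLinearCombination_injective
  obtain ⟨T₀, h0, hpin⟩ := pins_five
  refine ⟨ι '' T₀, fun ⟨v, hv, e⟩ => h0 ?_, fun L hL hT j => ?_⟩
  · rwa [← hι (e.trans (map_zero ι).symm)]
  have hTfin : (T₀.image ι.toAddMonoidHom).image L = T₀.image ι.toAddMonoidHom := by
    refine Finset.eq_of_subset_of_card_le (fun x hx => ?_) ?_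
    · obtain ⟨y, hy, rfl⟩ := Finset.mem_image.mp hx
      have h : L y ∈ ι '' (T₀ : Set _) := (hT y).mpr (by
        obtain ⟨v, hv, rfl⟩ := Finset.mem_image.mp hy
        exact ⟨v, hv, rfl⟩)
      obtain ⟨v, hv, e⟩ := h
      exact Finset.mem_image.mpr ⟨v, hv, e⟩
    · rw [Finset.card_image_of_injective _ hL]
  have hfix : ∀ i, L (f i) = f i := by
    intro i
    have h := pinned ι.toAddMonoidHom hι T₀ (hpin i).1 (hpin i).2 L hL hTfin
    have e : ι.toAddMonoidHom (Pi.single i 1) = f i := by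
      simp [ι, Fintype.linearCombination_apply_single]
    rwa [e] at h
  have hts : t j ∈ Submodule.span (ZMod 2) s := hspan ▸ Submodule.subset_span ⟨j, rfl⟩
  refine Submodule.span_induction (p := fun x _ => L x = x) ?_ (map_zero L) ?_ ?_ hts
  · intro x hx
    let x' : hs.extend (Set.subset_univ s) :=
      ⟨x, hs.subset_extend _ hx⟩
    have h := hfix (U.equivFinOfCardEq hU ⟨x', hSU (Finset.mem_filter.mpr ⟨Finset.mem_univ _, hx⟩)⟩)
    simpa [f, hb, x'] using h
  · intro x y _ _ hx hy
    rw [map_add, hx, hy]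
  · intro c x _ hx
    rw [ZMod.map_smul, hx]

/-- A set whose stabilizer fixes two given independent vectors, in dimension four. -/
theorem exists_set_fixing_two {N : Type*} [AddCommGroup N] [Finite N] [Module (ZMod 2) N]
    (hN : Module.finrank (ZMod 2) N = 4) {x y : N} (hx : x ≠ 0) (hy : y ≠ 0) (hxy : x ≠ y) :
    ∃ T : Set N, (0 : N) ∉ T ∧ ∀ L : N →+ N, Function.Injective L →
      (∀ z, L z ∈ T ↔ z ∈ T) → L x = x ∧ L y = y := by
  haveI := Module.Finite.of_finite (R := ZMod 2) (M := N)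
  have hind : LinearIndependent (ZMod 2) ![x, y] := by
    refine LinearIndependent.pair_iff.mpr fun a c h => ?_
    have h2 : ∀ a : ZMod 2, a = 0 ∨ a = 1 := by decide
    rcases h2 a with rfl | rfl <;> rcases h2 c with rfl | rfl
    · exact ⟨rfl, rfl⟩
    · exact absurd (by simpa using h) hy
    · exact absurd (by simpa using h) hx
    · refine absurd (add_right_cancel (b := y) ?_) hxy
      rw [one_smul, one_smul] at h
      rw [h, ← two_nsmul, ← Nat.cast_smul_eq_nsmul (ZMod 2) 2 y,
        show ((2 : ℕ) : ZMod 2) = 0 from rfl, zero_smul]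
  obtain ⟨f, hf, hfx, hfy⟩ : ∃ f : Fin 4 → N, LinearIndependent (ZMod 2) f ∧
      f 0 = x ∧ f 1 = y := by
    obtain ⟨u, hu⟩ := exists_linearIndependent_cons_of_lt_finrank hind (by rw [hN]; norm_num)
    obtain ⟨w, hw⟩ := exists_linearIndependent_cons_of_lt_finrank hu (by rw [hN]; norm_num)
    exact ⟨![x, y, u, w], by
      have := hw.comp ![2, 3, 1, 0] (by decide)
      have e : ![x, y, u, w] = Fin.cons w (Fin.cons u ![x, y]) ∘ ![2, 3, 1, 0] := by
        funext i
        fin_cases i <;> rfl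
      rw [e]
      exact this, rfl, rfl⟩
  let ι := Fintype.linearCombination (ZMod 2) f
  have hι : Function.Injective ι := hf.fintypeLinearCombination_injective
  obtain ⟨T₀, h0, hpin⟩ := pins_four
  refine ⟨ι '' T₀, fun ⟨v, hv, e⟩ => h0 ?_, fun L hL hT => ?_⟩
  · rwa [← hι (e.trans (map_zero ι).symm)]
  have hTfin : (T₀.image ι.toAddMonoidHom).image L = T₀.image ι.toAddMonoidHom := by
    refine Finset.eq_of_subset_of_card_le (fun x hx => ?_) ?_
    · obtain ⟨y, hy, rfl⟩ := Finset.mem_image.mp hx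
      have h : L y ∈ ι '' (T₀ : Set _) := (hT y).mpr (by
        obtain ⟨v, hv, rfl⟩ := Finset.mem_image.mp hy
        exact ⟨v, hv, rfl⟩)
      obtain ⟨v, hv, e⟩ := h
      exact Finset.mem_image.mpr ⟨v, hv, e⟩
    · rw [Finset.card_image_of_injective _ hL]
  have hfix : ∀ i : Fin 4, (i : ℕ) < 2 → L (f i) = f i := by
    intro i hi
    have h := pinned ι.toAddMonoidHom hι T₀ (hpin i hi).1 (hpin i hi).2 L hL hTfin
    have e : ι.toAddMonoidHom (Pi.single i 1) = f i := by
      simp [ι, Fintype.linearCombination_apply_single]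
    rwa [e] at h
  exact ⟨hfx ▸ hfix 0 (by decide), hfy ▸ hfix 1 (by decide)⟩

end CfsgLib.CopBase
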