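import Cfsg.Agent.Lib.CopBase.Pin

/-!
# A set with trivial setwise stabilizer in a solvable irreducible group of order prime to three
-/

set_option autoImplicit false
set_option linter.style.haveILetI false
set_option linter.unusedSectionVars false

namespace CfsgLib.CopBase

open CfsgLib.OddBase
open scoped Classical

universe u

/-- Short formal sums of basis vectors are equal only when they have the same terms. -/
theorem multiset_eq_of_sum_eq {r : ℕ} [Fact r.Prime] {N : Type*} [AddCommGroup N]
    [Module (ZMod r) N] {κ : Type*} (b : Module.Basis κ (ZMod r) N) {l l' : Multiset κ}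
    (hl : Multiset.card l < r) (hl' : Multiset.card l' < r)
    (h : (l.map b).sum = (l'.map b).sum) : l = l' := by
  have key : ∀ (l : Multiset κ) (m : κ), b.repr (l.map b).sum m = (l.count m : ZMod r) := by
    intro l m
    induction l using Multiset.induction_on with
    | empty => simp
    | cons a l ih =>
      rw [Multiset.map_cons, Multiset.sum_cons, map_add, Finsupp.add_apply, ih, b.repr_self,
        Multiset.count_cons, Nat.cast_add, Finsupp.single_apply, add_comm]
      by_cases hm : a = m
      · subst hm; simp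
      · simp [hm, Ne.symm hm]
  refine Multiset.ext.mpr fun m => ?_
  have h1 : ((l.count m : ℕ) : ZMod r) = (l'.count m : ℕ) := by rw [← key, ← key, h]
  have h2 := congrArg ZMod.val h1
  rwa [ZMod.val_cast_of_lt ((Multiset.count_le_card _ _).trans_lt hl),
    ZMod.val_cast_of_lt ((Multiset.count_le_card _ _).trans_lt hl')] at h2

/-- A set with trivial stabilizer among all automorphisms, in characteristic at least five. -/
theorem exists_set_large {r : ℕ} [Fact r.Prime] (hr : 5 ≤ r) {N : Type*} [AddCommGroup N]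
    [Finite N] [Module (ZMod r) N] :
    ∃ T : Set N, (0 : N) ∉ T ∧ ∀ L : N →+ N, Function.Injective L →
      (∀ x, L x ∈ T ↔ x ∈ T) → ∀ x, L x = x := by
  haveI := Module.Finite.of_finite (R := ZMod r) (M := N)
  let b := Module.finBasis (ZMod r) N
  let P : Multiset (Fin (Module.finrank (ZMod r) N)) → Prop := fun l =>
    (∃ i : Fin _, (i : ℕ) = 0 ∧ l = {i, i}) ∨ (∃ i, l = {i}) ∨
      ∃ i j : Fin _, (j : ℕ) = i + 1 ∧ l = {i, j}
  have hP : ∀ l, P l → 1 ≤ Multiset.card l ∧ Multiset.card l ≤ 2 := by
    rintro l (⟨i, -, rfl⟩ | ⟨i, rfl⟩ | ⟨i, j, -, rfl⟩) <;> simp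
  let T : Set N := {x | ∃ l, P l ∧ (l.map b).sum = x}
  have hTP : ∀ l, Multiset.card l < r → (l.map b).sum ∈ T → P l := by
    rintro l hl ⟨l', hl', e⟩
    obtain rfl := multiset_eq_of_sum_eq b (by have := hP l' hl'; omega) hl e
    exact hl'
  refine ⟨T, fun h => ?_, fun L hL hT => ?_⟩
  · have := hP 0 (hTP 0 (by simp; omega) (by simpa using h))
    simp at this
  have hb : ∀ i, b i ∈ T := fun i => ⟨{i}, Or.inr (Or.inl ⟨i, rfl⟩), by simp⟩
  have hfix : ∀ (n : ℕ) (i : Fin (Module.finrank (ZMod r) N)), (i : ℕ) = n → L (b i) = b i := by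
    intro n
    induction n using Nat.strong_induction_on with
    | _ n ih =>
    intro i hi
    obtain ⟨l, hl, hle⟩ := (hT _).mpr (hb i)
    have hcard := hP l hl
    rcases n with _ | n
    · -- the only element whose double also lies in the set
      have h2 : L (b i) + L (b i) ∈ T := by
        rw [← map_add]
        exact (hT _).mpr ⟨{i, i}, Or.inl ⟨i, hi, rfl⟩, by simp⟩
      rw [← hle, ← Multiset.sum_add, ← Multiset.map_add] at h2
      have h3 := hTP _ (by simp; omega) h2
      have h4 := hP _ h3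
      rw [Multiset.card_add] at h4
      obtain ⟨m, rfl⟩ := Multiset.card_eq_one.mp (show Multiset.card l = 1 by omega)
      have hm : (m : ℕ) = 0 := by
        rcases h3 with ⟨a, ha, e⟩ | ⟨a, e⟩ | ⟨a, c, hac, e⟩
        · have : m ∈ ({a, a} : Multiset _) := e ▸ by simp
          simp at this
          exact this ▸ ha
        · exact absurd (congrArg Multiset.card e) (by simp)
        · have h5 : a ∈ ({m} + {m} : Multiset _) := e ▸ by simp
          have h6 : c ∈ ({m} + {m} : Multiset _) := e ▸ by simp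
          simp at h5 h6
          subst h5 h6
          omega
      simp at hle
      rw [← hle, show m = i from Fin.ext (hm.trans hi.symm)]
    · let p : Fin (Module.finrank (ZMod r) N) := ⟨n, by have := i.isLt; omega⟩
      have hp : L (b p) = b p := ih n (by omega) p rfl
      have h2 : b p + L (b i) ∈ T := by
        rw [← hp, ← map_add]
        exact (hT _).mpr ⟨{p, i}, Or.inr (Or.inr ⟨p, i, hi, rfl⟩), by simp⟩
      rw [← hle, ← Multiset.sum_cons, ← Multiset.map_cons] at h2
      have h3 := hTP _ (by simp; omega) h2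
      have h4 := hP _ h3
      rw [Multiset.card_cons] at h4
      obtain ⟨m, rfl⟩ := Multiset.card_eq_one.mp (show Multiset.card l = 1 by omega)
      simp at hle
      have hmlt : ¬ (m : ℕ) ≤ n := fun h => by
        have h5 := hL (hle.symm.trans (ih m (by omega) m rfl).symm)
        have := congrArg Fin.val (b.injective h5)
        omega
      have hm : (m : ℕ) = n + 1 := by
        rcases h3 with ⟨a, ha, e⟩ | ⟨a, e⟩ | ⟨a, c, hac, e⟩
        · have : m ∈ ({a, a} : Multiset _) := e ▸ by simp
          simp at this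
          subst this
          omega
        · exact absurd (congrArg Multiset.card e) (by simp)
        · have h5 : p ∈ ({a, c} : Multiset _) := e ▸ by simp
          have h6 : m ∈ ({a, c} : Multiset _) := e ▸ by simp
          simp at h5 h6
          have hpn : (p : ℕ) = n := rfl
          rcases h5 with h5 | h5 <;> rcases h6 with h6 | h6 <;>
            (subst h6; rw [h5] at hpn; omega)
      rw [← hle, show m = i from Fin.ext (hm.trans hi.symm)]
  intro x
  have h : L.toZModLinearMap r = LinearMap.id := b.ext fun i => hfix _ i rfl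
  exact DFunLike.congr_fun h x

/-- Cubic residues modulo seven and orders prime to three. -/
theorem zmod_seven_sq {j : ZMod 7} {n : ℕ} (hn : ¬ 3 ∣ n) (h : j ^ n = 1) : j = 1 ∨ j = -1 := by
  have hj : j ^ 6 = 1 := by
    rcases Nat.eq_zero_or_pos n with rfl | hn0
    · exact absurd (dvd_zero 3) hn
    · have : j ≠ 0 := fun e => by
        rw [e, zero_pow hn0.ne'] at h
        exact absurd h (by decide : (0 : ZMod 7) ≠ 1)
      clear h hn hn0
      revert this
      revert j
      decide
  have h2 : j ^ (n % 6) = 1 := by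
    rw [← Nat.div_add_mod n 6, pow_add, pow_mul, hj, one_pow, one_mul] at h
    exact h
  have h3 : n % 6 = 1 ∨ n % 6 = 2 ∨ n % 6 = 4 ∨ n % 6 = 5 := by omega
  clear hn h
  revert h2 hj
  revert j
  rcases h3 with e | e | e | e <;> rw [e] <;> decide

/-- In characteristic two and small dimension. -/
theorem exists_set_small {H : Type u} [Group H] [Finite H] [Group.IsSolvable H]
    (h3 : ¬ 3 ∣ Nat.card H) {N : Type u} [AddCommGroup N] [Finite N] [Nontrivial N]
    [Module (ZMod 2) N] (σ : H →* AddMonoid.End N) (hfaith : ∀ h, σ h = 1 → h = 1)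
    (hirr : Irr σ) (hk : Module.finrank (ZMod 2) N ≤ 4) :
    ∃ T : Set N, (0 : N) ∉ T ∧ ∀ h, (∀ x, σ h x ∈ T ↔ x ∈ T) → σ h = 1 := by
  haveI := Module.Finite.of_finite (R := ZMod 2) (M := N)
  by_cases htriv : ∀ h : H, h = 1
  · exact ⟨∅, by simp, fun h _ => by rw [htriv h, map_one]⟩
  have hcard : Nat.card N = 2 ^ Module.finrank (ZMod 2) N := by
    rw [Module.natCard_eq_pow_finrank (K := ZMod 2), Nat.card_zmod]
  obtain ⟨M, hMn, hM0, -, hmin⟩ := CfsgLib.Solvable.exists_minimal_normal_le (⊤ : Subgroup H)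
    fun h => htriv fun g => Subgroup.mem_bot.mp (h ▸ Subgroup.mem_top g)
  haveI := hMn
  obtain ⟨hMc, q, hq, hexp⟩ := CfsgLib.Solvable.minimal_normal_elementary_abelian M hM0 hmin
  haveI := Fact.mk hq
  have hMq : IsPGroup q M := fun x => ⟨1, Subtype.ext (by simpa using hexp x x.2)⟩
  have hqdvd : q ∣ Nat.card H := by
    obtain ⟨j, hj⟩ := IsPGroup.iff_card.mp hMq
    refine (dvd_pow_self q fun h0 => hM0 (Subgroup.eq_bot_of_card_eq M (by rw [hj, h0, pow_zero]))).trans
      (hj ▸ M.card_subgroup_dvd_card)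
  have hq2 : q ≠ 2 := by
    rintro rfl
    exact hM0 ((Subgroup.eq_bot_iff_forall M).mpr fun g hg =>
      hfaith g (normal_pgroup_trivial hirr.cr hcard M hMq g hg))
  have hq3 : q ≠ 3 := by
    rintro rfl
    exact h3 hqdvd
  have hq5 : 5 ≤ q := by
    have := hq.two_le
    by_contra h
    interval_cases q <;> first | omega | exact absurd hq (by decide)
  -- no element of `M` fixes a non-zero vector
  let FM : AddSubgroup N := ⨅ g : M, fixedBy (σ g)
  have hFM : FM = ⊥ := by
    refine (hirr FM fun g x hx => ?_).resolve_right fun h => hM0 ?_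
    · simp only [FM, AddSubgroup.mem_iInf, mem_fixedBy] at hx ⊢
      intro m
      rw [← rho_mul, show (m : H) * g = g * (g⁻¹ * m * g) by group, rho_mul]
      exact congrArg (σ g) (hx ⟨g⁻¹ * m * g, by simpa using hMn.conj_mem m m.2 g⁻¹⟩)
    · refine (Subgroup.eq_bot_iff_forall M).mpr fun m hm => hfaith m (end_ext fun x => ?_)
      have hx : x ∈ FM := h ▸ AddSubgroup.mem_top x
      simp only [FM, AddSubgroup.mem_iInf, mem_fixedBy] at hx
      exact hx ⟨m, hm⟩
  have hcomm : ∀ a ∈ M, ∀ c ∈ M, a * c = c * a := fun a ha c hc =>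
    congrArg Subtype.val (hMc.is_comm.comm (⟨a, ha⟩ : M) ⟨c, hc⟩)
  have hord : ∀ m ∈ M, m ≠ 1 → orderOf m = q ^ 1 := fun m hm hm1 => by
    rw [pow_one]; exact orderOf_eq_prime (hexp m hm) hm1
  have hfree : ∀ m ∈ M, m ≠ 1 → Nat.card (fixedBy (σ m)) = 1 ∧
      ((q = 7 ∧ Module.finrank (ZMod 2) N = 3) ∨ (q = 5 ∧ Module.finrank (ZMod 2) N = 4)) := by
    intro m hm hm1
    have hcong := card_modEq_fixedBy σ (ℓ := q) m (hord m hm hm1)
    obtain ⟨j, hjk, hj⟩ := (Nat.dvd_prime_pow Nat.prime_two).mp
      (hcard ▸ card_fixedBy_dvd σ m)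
    have hjlt : j < Module.finrank (ZMod 2) N := lt_of_le_of_ne hjk fun e => hm1
      (hfaith m (eq_one_of_fixedBy_card σ m (by rw [hj, e, hcard])))
    rw [hcard, hj] at hcong
    have hdvd : q ∣ 2 ^ Module.finrank (ZMod 2) N - 2 ^ j :=
      (Nat.modEq_iff_dvd' (Nat.pow_le_pow_right two_pos hjk)).mp hcong.symm
    have hle := Nat.le_of_dvd
      (Nat.sub_pos_of_lt (Nat.pow_lt_pow_right one_lt_two hjlt)) hdvd
    have hsmall : j ≠ 1 := by
      rintro rfl
      obtain ⟨f, hf, hf0⟩ : ∃ f ∈ fixedBy (σ m), f ≠ 0 := by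
        by_contra h
        push Not at h
        rw [(AddSubgroup.eq_bot_iff_forall _).mpr h, AddSubgroup.card_bot] at hj
        norm_num at hj
      refine hf0 (AddSubgroup.mem_bot.mp (hFM ▸ AddSubgroup.mem_iInf.mpr fun c => ?_))
      have hcf : σ c f ∈ fixedBy (σ m) := by
        show σ m (σ c f) = σ c f
        rw [← rho_mul, hcomm m hm c c.2, rho_mul, hf]
      by_contra hne
      have hsub : ({0, f, σ c f} : Finset N) ⊆ (Set.toFinite (fixedBy (σ m) : Set N)).toFinset := by
        intro z hz
        simp only [Finset.mem_insert, Finset.mem_singleton] at hz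
        rw [Set.Finite.mem_toFinset]
        rcases hz with rfl | rfl | rfl
        exacts [AddSubgroup.zero_mem _, hf, hcf]
      have hc3 : ({0, f, σ c f} : Finset N).card = 3 := by
        have e1 : σ c f ≠ 0 := fun e => hf0 (rho_injective σ c (e.trans (map_zero _).symm))
        simp [hf0.symm, e1.symm, Ne.symm hne]
      have h4 := Finset.card_le_card hsub
      rw [hc3, ← Nat.card_eq_card_finite_toFinset] at h4
      change 3 ≤ Nat.card (fixedBy (σ m)) at h4
      omega
    rw [hj]
    generalize Module.finrank (ZMod 2) N = k at hk hjlt hdvd hle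
    interval_cases k <;> interval_cases j <;> norm_num at hle hdvd ⊢
    all_goals interval_cases q
    all_goals first
      | omega
      | (norm_num at hdvd; done)
      | (norm_num at hq; done)
      | norm_num
  obtain ⟨a, ha, ha1⟩ : ∃ a ∈ M, a ≠ 1 := by
    by_contra h
    push Not at h
    exact hM0 ((Subgroup.eq_bot_iff_forall M).mpr h)
  obtain ⟨-, hk'⟩ := hfree a ha ha1
  have hfix0 : ∀ m ∈ M, ∀ x : N, σ m x = x → x ≠ 0 → m = 1 := by
    intro m hm x hx hx0
    by_contra hm1
    exact hx0 (AddSubgroup.mem_bot.mp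
      (AddSubgroup.eq_bot_of_card_eq _ (hfree m hm hm1).1 ▸ (show x ∈ fixedBy (σ m) from hx)))
  have hMcard : Nat.card M = q := by
    obtain ⟨i, hi⟩ := IsPGroup.iff_card.mp hMq
    have hd := hi ▸ card_dvd_pred σ M hfix0
    have hi0 : i ≠ 0 := fun h0 => hM0 (Subgroup.eq_bot_of_card_eq M (by rw [hi, h0, pow_zero]))
    rcases le_or_gt i 1 with hi1 | hi1
    · rw [hi, show i = 1 by omega, pow_one]
    · exfalso
      have h2 := Nat.le_of_dvd (by have := Finite.one_lt_card (α := N); omega)
        ((pow_dvd_pow q hi1).trans hd)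
      rw [hcard] at h2
      rcases hk' with ⟨rfl, e⟩ | ⟨rfl, e⟩ <;> rw [e] at h2 <;> norm_num at h2
  have hgen : ∀ m ∈ M, ∃ i : ℤ, a ^ i = m := by
    intro m hm
    have h1 : Subgroup.zpowers a = M := Subgroup.eq_of_le_of_card_ge
      (Subgroup.zpowers_le.mpr ha) (by rw [Nat.card_zpowers, hord a ha ha1, pow_one, hMcard])
    exact Subgroup.mem_zpowers_iff.mp (h1 ▸ hm)
  obtain ⟨x, hx⟩ := exists_ne (0 : N)
  have hax : σ a x ≠ x := fun e => ha1 (hfix0 a ha x e hx)
  have hax0 : σ a x ≠ 0 := fun e => hx (rho_injective σ a (e.trans (map_zero _).symm))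
  -- an element commuting with `M` and fixing `x` is trivial
  have hcent : ∀ s : H, σ s x = x → a * s = s * a → σ s = 1 := by
    intro s hs hsa
    refine eq_one_of_fixedBy_card σ s ?_
    let F := fixedBy (σ s)
    have hinv : Inv (σ.comp M.subtype) F := by
      rintro ⟨m, hm⟩ z hz
      obtain ⟨i, rfl⟩ := hgen m hm
      show σ s (σ (a ^ i) z) = σ (a ^ i) z
      rw [← rho_mul, ((show Commute a s from hsa).zpow_left i).eq.symm, rho_mul]
      exact congrArg _ hz
    have hd : Nat.card (⊤ : Subgroup M) ∣ Nat.card F - 1 :=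
      card_dvd_pred (restr (σ.comp M.subtype) F hinv) ⊤ fun m _ z hz hz0 =>
        Subtype.ext (hfix0 m m.2 z (congrArg Subtype.val hz) fun e => hz0 (Subtype.ext e))
    rw [Subgroup.card_top, hMcard] at hd
    obtain ⟨j, hjk, hj⟩ := (Nat.dvd_prime_pow Nat.prime_two).mp
      (hcard ▸ card_fixedBy_dvd σ s)
    have hj0 : j ≠ 0 := by
      rintro rfl
      exact hx (AddSubgroup.mem_bot.mp
        (AddSubgroup.eq_bot_of_card_eq F (hj.trans (pow_zero 2)) ▸ (show x ∈ F from hs)))
    change q ∣ Nat.card (fixedBy (σ s)) - 1 at hd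
    rw [hj] at hd ⊢
    rw [hcard]
    rcases hk' with ⟨rfl, e⟩ | ⟨rfl, e⟩ <;> rw [e] at hjk ⊢ <;>
      interval_cases j <;> first | rfl | omega | norm_num at hd
  rcases hk' with ⟨rfl, hk3⟩ | ⟨rfl, hk4⟩
  · -- dimension three: no element fixing a vector moves anything
    refine ⟨{x}, fun h => hx (Set.mem_singleton_iff.mp h).symm, fun s hs => ?_⟩
    have hsx : σ s x = x := (hs x).mpr rfl
    obtain ⟨i, hi⟩ := hgen _ (hMn.conj_mem a ha s)
    obtain ⟨n, hn⟩ : ∃ n : ℕ, a ^ n = s * a * s⁻¹ := by
      refine ⟨(i % (orderOf a : ℤ)).toNat, ?_⟩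
      rw [← hi, ← zpow_natCast, Int.toNat_of_nonneg (Int.emod_nonneg _ (by
        exact_mod_cast (orderOf_pos a).ne')), zpow_mod_orderOf]
    have hpow : ∀ l : ℕ, s ^ l * a * (s ^ l)⁻¹ = a ^ n ^ l := by
      intro l
      induction l with
      | zero => simp
      | succ l ih =>
        rw [pow_succ', show s * s ^ l * a * (s * s ^ l)⁻¹ = s * (s ^ l * a * (s ^ l)⁻¹) * s⁻¹ by
          group, ih, ← conj_pow, ← hn, ← pow_mul, pow_succ']
    have hord7 : orderOf a = 7 := by rw [hord a ha ha1, pow_one]
    have hmod : ∀ i j : ℕ, a ^ i = a ^ j ↔ (i : ZMod 7) = j := fun i j => by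
      rw [pow_eq_pow_iff_modEq, hord7, ZMod.natCast_eq_natCast_iff]
    have hn7 : ((n : ZMod 7)) ^ Nat.card H = 1 := by
      have h := hpow (Nat.card H)
      rw [pow_card_eq_one', one_mul, inv_one, mul_one] at h
      rw [← Nat.cast_pow, ← Nat.cast_one, ← hmod, ← h, pow_one]
    rcases zmod_seven_sq h3 hn7 with e | e
    · refine hcent s hsx ?_
      rw [← Nat.cast_one, ← hmod, pow_one, hn, mul_inv_eq_iff_eq_mul] at e
      exact e.symm
    · -- `s` cannot invert `a`
      have hinv : s * a * s⁻¹ = a⁻¹ := by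
        rw [← hn, eq_inv_iff_mul_eq_one, ← pow_succ, ← pow_zero a, hmod, Nat.cast_add, e]
        simp
      have h2 : σ (s ^ 2) = 1 := by
        refine hcent _ (by rw [sq, rho_mul, hsx, hsx]) ?_
        have h := hpow 2
        have e2 : a ^ n ^ 2 = a := by
          conv_rhs => rw [← pow_one a]
          rw [hmod, Nat.cast_pow, e]
          simp
        rw [e2, mul_inv_eq_iff_eq_mul] at h
        exact h.symm
      have hsm : ∀ m ∈ M, σ s (σ m x) = σ (s * m * s⁻¹) x := fun m _ => by
        rw [rho_mul, rho_mul, show σ s⁻¹ x = x by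
          conv_lhs => rw [← hsx]
          exact rho_inv_apply σ s x]
      -- the fixed space of the involution is `{0, x}`
      have hfixx : ∀ z : N, σ s z = z → z = 0 ∨ z = x := by
        intro z hz
        by_cases hz0 : z = 0
        · exact Or.inl hz0
        right
        obtain ⟨m, hm, hmz⟩ : ∃ m ∈ M, σ m x = z := by
          let f : M → {v : N // v ≠ 0} := fun m => ⟨σ m x, fun e =>
            hx (rho_injective σ m (e.trans (map_zero _).symm))⟩
          have hf : Function.Injective f := fun m m' e => by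
            refine Subtype.ext (inv_mul_eq_one.mp (hfix0 _ (mul_mem (inv_mem m.2) m'.2) x ?_ hx))
            rw [rho_mul, show σ (m' : H) x = σ m x from (congrArg Subtype.val e).symm,
              rho_inv_apply]
          have hb : Function.Bijective f := by
            haveI := Fintype.ofFinite M
            haveI := Fintype.ofFinite N
            refine (Fintype.bijective_iff_injective_and_card f).mpr ⟨hf, ?_⟩
            rw [Fintype.card_subtype_compl, Fintype.card_subtype_eq, ← Nat.card_eq_fintype_card,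
              ← Nat.card_eq_fintype_card, hMcard, hcard, hk3]
            rfl
          obtain ⟨m, hm⟩ := hb.2 ⟨z, hz0⟩
          exact ⟨m, m.2, congrArg Subtype.val hm⟩
        obtain ⟨i, rfl⟩ := hgen m hm
        rw [← hmz, hsm _ hm, ← conj_zpow, hinv, inv_zpow] at hz
        have h := hfix0 (a ^ i * a ^ i) (mul_mem hm hm) x (by
          rw [rho_mul]
          conv_lhs => arg 2; rw [← hz]
          rw [rho_apply_inv]) hx
        have hord2 : Nat.Coprime 2 (orderOf (a ^ i)) := Nat.Coprime.coprime_dvd_right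
          (orderOf_dvd_of_pow_eq_one (show (a ^ i) ^ 7 = 1 from hexp _ hm)) (by norm_num)
        have h1 : orderOf (a ^ i) ∣ 2 := orderOf_dvd_of_pow_eq_one (by rw [sq]; exact h)
        have h1' : a ^ i = 1 := orderOf_eq_one_iff.mp (Nat.dvd_one.mp
          (hord2.symm.gcd_eq_one ▸ Nat.dvd_gcd dvd_rfl h1))
        rw [← hmz, h1', rho_one]
      have hsum : ∀ m ∈ M, m ≠ 1 → σ m x + σ m⁻¹ x = x ∧ σ m⁻¹ x ≠ σ m x := by
        intro m hm hm1
        have hminv : s * m * s⁻¹ = m⁻¹ := by
          obtain ⟨i, rfl⟩ := hgen m hm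
          rw [← conj_zpow, hinv, inv_zpow]
        have hne : σ m⁻¹ x ≠ σ m x := by
          intro e
          have h := hfix0 (m * m) (mul_mem hm hm) x (by rw [rho_mul, ← e, rho_apply_inv]) hx
          have h7 : m ^ 7 = 1 := hexp m hm
          refine hm1 ?_
          calc m = m ^ 7 * m := by rw [h7, one_mul]
            _ = (m * m) ^ 4 := by rw [← sq, ← pow_mul, ← pow_succ]
            _ = 1 := by rw [h, one_pow]
        refine ⟨((hfixx _ ?_).resolve_left fun h0 => hne ?_), hne⟩
        · rw [map_add, hsm m hm, hminv, ← hminv, ← rho_mul]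
          have : σ s (σ m⁻¹ x) = σ m x := by
            conv_lhs => rw [← hminv, ← hsm m hm, ← rho_mul, ← sq, h2]
            rfl
          rw [hminv, ← rho_mul] at *
          rw [this, add_comm]
        · have h2z : σ m x + σ m x = 0 := by
            rw [← two_nsmul, ← Nat.cast_smul_eq_nsmul (ZMod 2) 2 (σ m x),
              show ((2 : ℕ) : ZMod 2) = 0 from rfl, zero_smul]
          exact add_left_cancel (h0.trans h2z.symm)
      have h1 := (hsum a ha ha1).1
      have ha2 : a * a ≠ 1 := fun e => by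
        have := orderOf_dvd_of_pow_eq_one (show a ^ 2 = 1 by rw [sq, e])
        rw [hord7] at this
        norm_num at this
      have h4 := (hsum (a * a) (mul_mem ha ha) ha2).1
      have h5 : σ (a * a) x + x = σ a x := by
        have := congrArg (σ a) h1
        rwa [map_add, ← rho_mul, rho_apply_inv] at this
      have h6 : σ (a * a)⁻¹ x = σ a x := by
        rw [← h5]
        refine (eq_sub_of_add_eq' h4).trans ?_
        have h2z : ∀ z : N, -z = z := fun z => neg_eq_of_add_eq_zero_left (by
          rw [← two_nsmul, ← Nat.cast_smul_eq_nsmul (ZMod 2) 2 z,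
            show ((2 : ℕ) : ZMod 2) = 0 from rfl, zero_smul])
        rw [sub_eq_add_neg, h2z, add_comm]
      have h7 : a * a * a = 1 := hfix0 _ (mul_mem (mul_mem ha ha) ha) x (by
        rw [rho_mul, ← h6, rho_apply_inv]) hx
      have := orderOf_dvd_of_pow_eq_one (show a ^ 3 = 1 by rw [pow_succ, sq]; exact h7)
      rw [hord7] at this
      norm_num at this
  · -- dimension four: pin two vectors
    obtain ⟨T, hT0, hT⟩ := exists_set_fixing_two hk4 hx hax0 hax.symm
    refine ⟨T, hT0, fun s hs => ?_⟩
    obtain ⟨hsx, hsax'⟩ := hT (σ s) (rho_injective σ s) hs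
    have hsax : σ s (σ a x) = σ a x := hsax'
    refine hcent s hsx ?_
    have h : a⁻¹ * (s * a * s⁻¹) = 1 := by
      refine hfix0 _ (mul_mem (inv_mem ha) (hMn.conj_mem a ha s)) x ?_ hx
      rw [rho_mul, rho_mul, rho_mul, show σ s⁻¹ x = x by
        conv_lhs => rw [← hsx]
        exact rho_inv_apply σ s x, hsax, rho_inv_apply]
    rw [inv_mul_eq_one, eq_mul_inv_iff_mul_eq] at h
    exact h

/-- The general statement. -/
theorem exists_set {H : Type u} [Group H] [Finite H] [Group.IsSolvable H]
    (h3 : ¬ 3 ∣ Nat.card H) {N : Type u} [AddCommGroup N] [Finite N] [Nontrivial N] {r : ℕ}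
    [Fact r.Prime] (hr3 : r ≠ 3) [Module (ZMod r) N] (σ : H →* AddMonoid.End N)
    (hfaith : ∀ h, σ h = 1 → h = 1) (hirr : Irr σ) :
    ∃ T : Set N, (0 : N) ∉ T ∧ ∀ h, (∀ x, σ h x ∈ T ↔ x ∈ T) → σ h = 1 := by
  rcases eq_or_ne r 2 with rfl | hr2
  · rcases le_or_gt (Module.finrank (ZMod 2) N) 4 with hk | hk
    · exact exists_set_small h3 σ hfaith hirr hk
    · obtain ⟨t, ht⟩ := CfsgLib.SolBase.three_aux (Nat.card N) H N σ rfl inferInstance hirr.cr
      obtain ⟨T, hT0, hT⟩ := exists_set_fixing_three hk t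
      exact ⟨T, hT0, fun h hh => ht h (hT (σ h) (rho_injective σ h) hh)⟩
  · have h5 : 5 ≤ r := by
      have hr := (Fact.out : r.Prime)
      have := hr.two_le
      by_contra h
      interval_cases r <;> first | omega | exact absurd hr (by decide)
    obtain ⟨T, hT0, hT⟩ := exists_set_large h5 (N := N)
    exact ⟨T, hT0, fun h hh => end_ext (hT (σ h) (rho_injective σ h) hh)⟩

end CfsgLib.CopBase
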